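import Mathlib

/-! Local rings of fixed fields of decomposition groups are henselian. -/

set_option autoImplicit false
set_option linter.style.haveILetI false
universe u

namespace Groth.Agent.DecompHens7

open Polynomial

/-- Automorphisms fixing the fixed field of a set of automorphisms preserving `S` preserve `S`. -/
theorem stable_of_fixedField {K Ks : Type u} [Field K] [Field Ks] [Algebra K Ks] [IsGalois K Ks]
    (H : Subgroup (Ks ≃ₐ[K] Ks)) (S : Set Ks) (hS : ∀ σ ∈ H, ∀ x, σ x ∈ S ↔ x ∈ S)
    (σ : Ks ≃ₐ[K] Ks) (hσ : ∀ y ∈ IntermediateField.fixedField H, σ y = y) : ∀ x, σ x ∈ S ↔ x ∈ S := by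
  let T : Subgroup (Ks ≃ₐ[K] Ks) :=
    { carrier := {τ | ∀ x, τ x ∈ S ↔ x ∈ S}
      one_mem' := fun _ => Iff.rfl
      mul_mem' := fun {a b} ha hb x => (ha (b x)).trans (hb x)
      inv_mem' := fun {a} ha x => by
        have := ha (a.symm x)
        rw [a.apply_symm_apply] at this
        exact this.symm }
  have hclosed : IsClosed (T : Set (Ks ≃ₐ[K] Ks)) := by
    rw [← isOpen_compl_iff, isOpen_iff_mem_nhds]
    intro τ hτ
    simp only [Set.mem_compl_iff, SetLike.mem_coe] at hτ
    obtain ⟨x, hx⟩ : ∃ x, ¬ (τ x ∈ S ↔ x ∈ S) := not_forall.1 hτ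
    haveI : FiniteDimensional K (IntermediateField.adjoin K ({x} : Set Ks)) :=
      IntermediateField.adjoin.finiteDimensional (Algebra.IsIntegral.isIntegral x)
    let U : Set (Ks ≃ₐ[K] Ks) :=
      (fun ρ : Ks ≃ₐ[K] Ks => τ⁻¹ * ρ) ⁻¹' ((IntermediateField.adjoin K ({x} : Set Ks)).fixingSubgroup : Set (Ks ≃ₐ[K] Ks))
    refine Filter.mem_of_superset (IsOpen.mem_nhds (s := U) ?_ ?_) fun ρ hρ hρT => hx ?_
    · exact (IntermediateField.fixingSubgroup_isOpen _).preimage (continuous_const_mul _)
    · change τ⁻¹ * τ ∈ ((IntermediateField.adjoin K ({x} : Set Ks)).fixingSubgroup : Set (Ks ≃ₐ[K] Ks))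
      rw [SetLike.mem_coe]
      rw [inv_mul_cancel]
      exact one_mem _
    · have h1 : τ.symm (ρ x) = x :=
        ((IntermediateField.mem_fixingSubgroup_iff _ _).1 hρ x (IntermediateField.mem_adjoin_simple_self K x))
      have h2 : ρ x = τ x := by
        have := congrArg τ h1
        rwa [τ.apply_symm_apply] at this
      exact h2 ▸ hρT x
  have hle : IntermediateField.fixedField T ≤ IntermediateField.fixedField H := fun y hy g =>
    hy ⟨g.1, fun x => hS g.1 g.2 x⟩
  have hmem : σ ∈ (IntermediateField.fixedField T).fixingSubgroup :=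
    (IntermediateField.mem_fixingSubgroup_iff _ _).2 fun y hy => hσ y (hle hy)
  rw [InfiniteGalois.fixingSubgroup_fixedField ⟨T, hclosed⟩] at hmem
  exact hmem

/-- Galois descent of Hensel's lemma: `V` normal, `W` over it with Galois-stable maximal ideal. -/
theorem exists_root_of_irreducible {V L W Ks : Type u} [CommRing V] [IsDomain V] [IsIntegrallyClosed V]
    [IsLocalRing V] [Field L] [Algebra V L] [IsFractionRing V L] [CommRing W] [IsDomain W] [IsLocalRing W]
    [IsIntegrallyClosed W] [Field Ks] [Algebra W Ks] [IsFractionRing W Ks] [Algebra L Ks] [IsSepClosed Ks]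
    [IsGalois L Ks] [Algebra V W] [IsLocalHom (algebraMap V W)] [Algebra V Ks] [IsScalarTower V W Ks]
    [IsScalarTower V L Ks]
    (hstab : ∀ (σ : Ks ≃ₐ[L] Ks) (w : W), w ∈ IsLocalRing.maximalIdeal W →
      ∃ w' ∈ IsLocalRing.maximalIdeal W, algebraMap W Ks w' = σ (algebraMap W Ks w))
    (g : V[X]) (hg : g.Monic) (hirr : Irreducible g) (a : V)
    (h0 : g.eval a ∈ IsLocalRing.maximalIdeal V) (h1 : IsUnit (g.derivative.eval a)) :
    ∃ b : V, g.IsRoot b ∧ b - a ∈ IsLocalRing.maximalIdeal V := by
  classical
  have hinj : Function.Injective (algebraMap V L) := IsFractionRing.injective V L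
  have hirrL : Irreducible (g.map (algebraMap V L)) := hg.irreducible_iff_irreducible_map_fraction_map.1 hirr
  have hd : derivative g ≠ 0 := fun h => by
    rw [h, eval_zero] at h1; exact not_isUnit_zero h1
  have hsep : (g.map (algebraMap V L)).Separable := (separable_iff_derivative_ne_zero hirrL).2 (by
    rw [derivative_map]
    exact (Polynomial.map_ne_zero_iff hinj).2 hd)
  let gW := g.map (algebraMap V W)
  have hgW : gW.Monic := hg.map _
  have hmapKs : g.map (algebraMap V Ks) = (g.map (algebraMap V L)).map (algebraMap L Ks) := by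
    rw [Polynomial.map_map, ← IsScalarTower.algebraMap_eq]
  have hsplit : (g.map (algebraMap V Ks)).Splits := by
    refine IsSepClosed.splits_of_separable _ ?_
    rw [hmapKs]; exact hsep.map
  have hroot : ∀ x ∈ (g.map (algebraMap V Ks)).roots, ∃ w : W, algebraMap W Ks w = x := fun x hx => by
    have hi : IsIntegral W x := by
      refine ⟨gW, hgW, ?_⟩
      rw [← Polynomial.eval_map, Polynomial.map_map, ← IsScalarTower.algebraMap_eq]
      exact (Polynomial.mem_roots'.1 hx).2
    exact IsIntegrallyClosed.isIntegral_iff.1 hi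
  choose ρ hρ using hroot
  let M : Multiset W := (g.map (algebraMap V Ks)).roots.pmap ρ fun _ h => h
  have hM : gW = (M.map fun w => X - C w).prod := by
    refine Polynomial.map_injective (algebraMap W Ks) (IsFractionRing.injective W Ks) ?_
    rw [Polynomial.map_multiset_prod, Multiset.map_map, Polynomial.map_map, ← IsScalarTower.algebraMap_eq]
    conv_lhs => rw [Polynomial.Splits.eq_prod_roots hsplit, (hg.map (algebraMap V Ks)).leadingCoeff, C_1, one_mul]
    congr 1
    rw [Multiset.map_pmap, ← Multiset.pmap_eq_map (p := fun _ => True) (f := fun x => X - C x)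
      (H := fun _ _ => trivial)]
    refine Multiset.pmap_congr _ fun x hx _ _ => ?_
    simp only [Function.comp_apply, Polynomial.map_sub, map_X, map_C, hρ]
  have he : (algebraMap V W (g.eval a)) = (M.map fun w => algebraMap V W a - w).prod := by
    have h : (algebraMap V W (g.eval a)) = gW.eval (algebraMap V W a) := by
      rw [Polynomial.eval_map, Polynomial.eval₂_hom]
    rw [h, hM, Polynomial.eval_multiset_prod, Multiset.map_map]
    simp [Function.comp_def]
  have hmW : algebraMap V W (g.eval a) ∈ IsLocalRing.maximalIdeal W := map_nonunit _ _ h0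
  rw [he] at hmW
  obtain ⟨d₀, hd₀, hd'⟩ :=
    ((inferInstance : (IsLocalRing.maximalIdeal W).IsPrime).multiset_prod_mem_iff_exists_mem _).1 hmW
  obtain ⟨d, hdM, rfl⟩ := Multiset.mem_map.1 hd₀
  obtain ⟨x₁, hx₁, rfl⟩ := Multiset.mem_pmap.1 hdM
  have hall : ∀ w ∈ M, algebraMap V W a - w ∈ IsLocalRing.maximalIdeal W := fun w hw => by
    obtain ⟨x, hx, rfl⟩ := Multiset.mem_pmap.1 hw
    have hr : ∀ y ∈ (g.map (algebraMap V Ks)).roots, minpoly L y = g.map (algebraMap V L) := fun y hy => by
      refine (minpoly.eq_of_irreducible_of_monic hirrL ?_ (hg.map _)).symm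
      rw [Polynomial.aeval_map_algebraMap]
      have := (Polynomial.mem_roots'.1 hy).2
      rwa [Polynomial.IsRoot, Polynomial.eval_map, ← Polynomial.aeval_def] at this
    obtain ⟨σ, hσ⟩ := IsConjRoot.exists_algEquiv (K := L) (x := x₁) (y := x) ((hr x₁ hx₁).trans (hr x hx).symm)
    obtain ⟨w', hw', hww⟩ := hstab σ.symm _ hd'
    have key : algebraMap W Ks w' = algebraMap W Ks (algebraMap V W a - ρ x hx) := by
      rw [hww, map_sub, map_sub, map_sub, hρ, hρ, ← IsScalarTower.algebraMap_apply,
        IsScalarTower.algebraMap_apply V L Ks, AlgEquiv.commutes]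
      congr 1
      rw [← hσ, AlgEquiv.symm_apply_apply]
    exact IsFractionRing.injective W Ks key ▸ hw'
  have hdeg : g.natDegree = 1 := by
    have hcard : Multiset.card M = g.natDegree := by
      rw [Multiset.card_pmap, ← Polynomial.Splits.natDegree_eq_card_roots hsplit, hg.natDegree_map]
    have hpos : 0 < g.natDegree := hg.natDegree_pos.2 fun h => hirr.not_isUnit (h ▸ isUnit_one)
    by_contra hne
    have h2 : 2 ≤ Multiset.card M := by omega
    let r := IsLocalRing.residue W
    have hgr : g.map (r.comp (algebraMap V W)) = (X - C (r (algebraMap V W a))) ^ Multiset.card M := by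
      rw [← Polynomial.map_map, show g.map (algebraMap V W) = gW from rfl, hM, Polynomial.map_multiset_prod,
        Multiset.map_map, ← Multiset.card_map (fun w => (X - C (r w))) M, ← Multiset.prod_replicate]
      refine congrArg Multiset.prod (Eq.trans ?_ (Multiset.eq_replicate.2 ⟨rfl, fun p hp => ?_⟩))
      · exact Multiset.map_congr rfl fun w _ => by simp [r]
      · obtain ⟨w, hw, rfl⟩ := Multiset.mem_map.1 hp
        rw [show r (algebraMap V W a) = r w from Ideal.Quotient.eq.2 (hall w hw)]
    have h3 : IsUnit ((g.map (r.comp (algebraMap V W))).derivative.eval (r (algebraMap V W a))) := by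
      rw [derivative_map, Polynomial.eval_map, show r (algebraMap V W a) = (r.comp (algebraMap V W)) a from rfl,
        Polynomial.eval₂_hom]
      exact h1.map _
    rw [hgr, derivative_pow, eval_mul, eval_mul, eval_C, eval_pow, eval_sub, eval_X, eval_C, sub_self,
      zero_pow (by omega), mul_zero, zero_mul] at h3
    exact not_isUnit_zero h3
  obtain ⟨c, hc⟩ : ∃ c, g = X + C c := ⟨g.coeff 0, hg.eq_X_add_C hdeg⟩
  refine ⟨-c, by simp [hc, Polynomial.IsRoot], ?_⟩
  have : g.eval a = a + c := by simp [hc]
  rw [this] at h0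
  have := neg_mem h0
  convert this using 1
  ring

theorem henselianLocalRing_of_stable {V L W Ks : Type u} [CommRing V] [IsDomain V] [IsIntegrallyClosed V]
    [IsLocalRing V] [Field L] [Algebra V L] [IsFractionRing V L] [CommRing W] [IsDomain W] [IsLocalRing W]
    [IsIntegrallyClosed W] [Field Ks] [Algebra W Ks] [IsFractionRing W Ks] [Algebra L Ks] [IsSepClosed Ks]
    [IsGalois L Ks] [Algebra V W] [IsLocalHom (algebraMap V W)] [Algebra V Ks] [IsScalarTower V W Ks]
    [IsScalarTower V L Ks]
    (hstab : ∀ (σ : Ks ≃ₐ[L] Ks) (w : W), w ∈ IsLocalRing.maximalIdeal W →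
      ∃ w' ∈ IsLocalRing.maximalIdeal W, algebraMap W Ks w' = σ (algebraMap W Ks w)) :
    HenselianLocalRing V := by
  classical
  constructor
  intro f hf a h0 h1
  induction hn : f.natDegree using Nat.strong_induction_on generalizing f with
  | _ n ih =>
    by_cases hirr : Irreducible f
    · exact exists_root_of_irreducible hstab f hf hirr a h0 h1
    have hne : f ≠ 1 := fun e => (IsLocalRing.maximalIdeal.isMaximal V).ne_top
      ((Ideal.eq_top_iff_one _).2 (by simpa [e] using h0))
    rw [hf.irreducible_iff_natDegree' (p := f)] at hirr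
    simp only [not_and, not_forall, not_not] at hirr
    obtain ⟨p, q, hp, hq, hpq, hdq⟩ := hirr hne
    rw [Finset.mem_Ioc] at hdq
    have hnat : f.natDegree = p.natDegree + q.natDegree := by rw [← hpq, hp.natDegree_mul hq]
    have hev : p.eval a * q.eval a ∈ IsLocalRing.maximalIdeal V := by rwa [← eval_mul, hpq]
    have hdev : f.derivative.eval a = p.derivative.eval a * q.eval a + p.eval a * q.derivative.eval a := by
      rw [← hpq, derivative_mul, eval_add, eval_mul, eval_mul]
    rw [hdev] at h1
    rcases (inferInstance : (IsLocalRing.maximalIdeal V).IsPrime).mem_or_mem hev with h | h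
    · have hu : IsUnit (p.derivative.eval a) := by
        by_contra hu
        exact (IsLocalRing.mem_maximalIdeal _).1 (add_mem (Ideal.mul_mem_right _ _ hu)
          (Ideal.mul_mem_right _ _ h)) h1
      obtain ⟨b, hb, hb'⟩ := ih p.natDegree (by omega) p hp h hu rfl
      exact ⟨b, by rw [← hpq, IsRoot, eval_mul, hb, zero_mul], hb'⟩
    · have hu : IsUnit (q.derivative.eval a) := by
        by_contra hu
        exact (IsLocalRing.mem_maximalIdeal _).1 (add_mem (Ideal.mul_mem_left _ _ h)
          (Ideal.mul_mem_left _ _ hu)) h1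
      obtain ⟨b, hb, hb'⟩ := ih q.natDegree (by omega) q hq h hu rfl
      exact ⟨b, by rw [← hpq, IsRoot, eval_mul, hb, mul_zero], hb'⟩

/-- The main statement: the local ring of the fixed field at the prime below is henselian. -/
theorem henselianLocalRing_fixedField {R K Ks : Type u} [CommRing R] [IsDomain R] [Field K] [Algebra R K]
    [IsFractionRing R K] [Field Ks] [Algebra K Ks] [IsSepClosure K Ks] [Algebra R Ks] [IsScalarTower R K Ks]
    (Ps : Ideal (integralClosure R Ks)) [Ps.IsMaximal] (G : Set (Ks ≃ₐ[K] Ks))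
    (hG : ∀ σ ∈ G, ∀ x : integralClosure R Ks, x ∈ Ps →
      ∃ h : σ (x : Ks) ∈ integralClosure R Ks, (⟨σ (x : Ks), h⟩ : integralClosure R Ks) ∈ Ps)
    (L : IntermediateField K Ks) (hL : L = IntermediateField.fixedField (Subgroup.closure G))
    (Q : Ideal (integralClosure R L)) [Q.IsPrime]
    (hQ : ∀ y : integralClosure R L, y ∈ Q ↔
      ∃ x : integralClosure R Ks, x ∈ Ps ∧ (x : Ks) = ((y : L) : Ks)) :
    HenselianLocalRing (Localization.AtPrime Q) := by
  classical
  haveI := (IsSepClosure.separable : Algebra.IsSeparable K Ks)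
  haveI : IsSepClosed Ks := IsSepClosure.sep_closed K
  haveI : IsGalois K Ks := IsSepClosure.isGalois
  haveI : Algebra.IsAlgebraic R K := IsLocalization.isAlgebraic _ (nonZeroDivisors R)
  haveI : Algebra.IsAlgebraic R Ks := Algebra.IsAlgebraic.trans R K Ks
  haveI : IsScalarTower R L Ks := IsScalarTower.of_algebraMap_eq fun x => rfl
  haveI : IsFractionRing (integralClosure R L) L := by
    haveI : Algebra.IsAlgebraic R L := Algebra.IsAlgebraic.trans R K L
    exact IsIntegralClosure.isFractionRing_of_algebraic (A := R) (C := integralClosure R L) (L := L)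
      fun x hx => IsFractionRing.injective R K ((algebraMap K L).injective (by
        rw [← IsScalarTower.algebraMap_apply, hx, map_zero, map_zero]))
  haveI : IsFractionRing (integralClosure R Ks) Ks :=
    IsIntegralClosure.isFractionRing_of_algebraic (A := R) (C := integralClosure R Ks) (L := Ks)
      fun x hx => IsFractionRing.injective R K ((algebraMap K Ks).injective (by
        rw [← IsScalarTower.algebraMap_apply, hx, map_zero, map_zero]))
  haveI : IsIntegrallyClosed (integralClosure R L) := (isIntegrallyClosed_iff_isIntegrallyClosedIn L).2 inferInstance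
  haveI : IsIntegrallyClosed (integralClosure R Ks) := (isIntegrallyClosed_iff_isIntegrallyClosedIn Ks).2 inferInstance
  let S : Set Ks := (fun x : integralClosure R Ks => (x : Ks)) '' (Ps : Set (integralClosure R Ks))
  have hS : ∀ σ ∈ Subgroup.closure G, ∀ x, σ x ∈ S ↔ x ∈ S := by
    intro σ hσ
    induction hσ using Subgroup.closure_induction with
    | mem σ hσ =>
      let e : integralClosure R Ks →+* integralClosure R Ks :=
        (((σ.restrictScalars R).toAlgHom.comp (integralClosure R Ks).val).codRestrict (integralClosure R Ks)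
          fun x => x.2.map (σ.restrictScalars R).toAlgHom).toRingHom
      have hle : Ps ≤ Ps.comap e := fun x hx => (hG σ hσ x hx).2
      have heq : Ps.comap e = Ps :=
        (Ideal.IsMaximal.eq_of_le ‹_› (Ideal.IsPrime.comap e).ne_top hle).symm
      intro x
      constructor
      · rintro ⟨y, hy, hyx⟩
        have hyx' : (y : Ks) = σ x := hyx
        have hint : IsIntegral R x := by
          have := y.2.map (σ.restrictScalars R).symm.toAlgHom
          simpa [hyx'] using this
        refine ⟨⟨x, hint⟩, ?_, rfl⟩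
        rw [← heq]
        show e ⟨x, hint⟩ ∈ Ps
        rw [show e ⟨x, hint⟩ = y from Subtype.ext hyx'.symm]
        exact hy
      · rintro ⟨y, hy, rfl⟩
        exact ⟨e y, hle hy, rfl⟩
    | one => exact fun x => Iff.rfl
    | mul σ τ _ _ hσ hτ => exact fun x => (hσ (τ x)).trans (hτ x)
    | inv σ _ hσ =>
      intro x
      have := hσ (σ.symm x)
      rw [σ.apply_symm_apply] at this
      exact this.symm
  let W := Localization.AtPrime Ps
  let V := Localization.AtPrime Q
  let ι : integralClosure R L →+* integralClosure R Ks :=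
    (((IsScalarTower.toAlgHom R L Ks).comp (integralClosure R L).val).codRestrict (integralClosure R Ks)
      fun x => x.2.map (IsScalarTower.toAlgHom R L Ks)).toRingHom
  have hQ' : Q = Ps.comap ι := by
    ext y
    rw [hQ]
    refine ⟨fun ⟨x, hx, hxy⟩ => ?_, fun h => ⟨ι y, h, rfl⟩⟩
    have e : x = ι y := Subtype.ext hxy
    show ι y ∈ Ps
    exact e ▸ hx
  letI : Algebra V W := (Localization.localRingHom Q Ps ι hQ').toAlgebra
  haveI : IsLocalHom (algebraMap V W) := Localization.isLocalHom_localRingHom Q Ps ι hQ'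
  letI : Algebra V L := (IsLocalization.lift (M := Q.primeCompl) (g := algebraMap (integralClosure R L) L)
    fun y => IsLocalization.map_units L (⟨y.1, Q.primeCompl_le_nonZeroDivisors y.2⟩ : nonZeroDivisors (integralClosure R L))).toAlgebra
  haveI : IsScalarTower (integralClosure R L) V L :=
    IsScalarTower.of_algebraMap_eq fun x => (IsLocalization.lift_eq _ x).symm
  haveI : IsFractionRing V L := IsFractionRing.isFractionRing_of_isDomain_of_isLocalization Q.primeCompl V L
  letI : Algebra W Ks := (IsLocalization.lift (M := Ps.primeCompl) (g := algebraMap (integralClosure R Ks) Ks)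
    fun y => IsLocalization.map_units Ks (⟨y.1, Ps.primeCompl_le_nonZeroDivisors y.2⟩ : nonZeroDivisors (integralClosure R Ks))).toAlgebra
  haveI : IsScalarTower (integralClosure R Ks) W Ks :=
    IsScalarTower.of_algebraMap_eq fun x => (IsLocalization.lift_eq _ x).symm
  haveI : IsFractionRing W Ks := IsFractionRing.isFractionRing_of_isDomain_of_isLocalization Ps.primeCompl W Ks
  haveI : IsDomain V := IsLocalization.isDomain_localization Q.primeCompl_le_nonZeroDivisors
  haveI : IsDomain W := IsLocalization.isDomain_localization Ps.primeCompl_le_nonZeroDivisors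
  haveI : IsIntegrallyClosed V := isIntegrallyClosed_of_isLocalization _ Q.primeCompl Q.primeCompl_le_nonZeroDivisors
  haveI : IsIntegrallyClosed W := isIntegrallyClosed_of_isLocalization _ Ps.primeCompl Ps.primeCompl_le_nonZeroDivisors
  letI : Algebra V Ks := ((algebraMap L Ks).comp (algebraMap V L)).toAlgebra
  haveI : IsScalarTower V L Ks := IsScalarTower.of_algebraMap_eq fun _ => rfl
  haveI : IsScalarTower V W Ks := IsScalarTower.of_algebraMap_eq' <| by
    refine IsLocalization.ringHom_ext Q.primeCompl (RingHom.ext fun y => ?_)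
    show algebraMap L Ks (algebraMap V L (algebraMap _ V y)) =
      algebraMap W Ks (Localization.localRingHom Q Ps ι hQ' (algebraMap _ V y))
    rw [← IsScalarTower.algebraMap_apply (integralClosure R L) V L, Localization.localRingHom_to_map,
      ← IsScalarTower.algebraMap_apply (integralClosure R Ks) W Ks]
    rfl
  refine henselianLocalRing_of_stable (V := V) (L := L) (W := W) (Ks := Ks) fun σ w hw => ?_
  obtain ⟨c, s, rfl⟩ := IsLocalization.exists_mk'_eq Ps.primeCompl w
  have hst := stable_of_fixedField (Subgroup.closure G) S hS (σ.restrictScalars K) fun y hy => by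
    rw [← hL] at hy
    exact σ.commutes ⟨y, hy⟩
  have hc : c ∈ Ps := (IsLocalization.AtPrime.mk'_mem_maximal_iff W Ps c s).1 hw
  obtain ⟨c', hc', hcc⟩ := (hst (c : Ks)).2 ⟨c, hc, rfl⟩
  have hsi : IsIntegral R (σ ((s.1 : integralClosure R Ks) : Ks)) :=
    (s.1).2.map (σ.restrictScalars R).toAlgHom
  let s' : integralClosure R Ks := ⟨_, hsi⟩
  have hs' : s' ∈ Ps.primeCompl := fun hm => by
    obtain ⟨y, hy, hys⟩ := (hst ((s.1 : integralClosure R Ks) : Ks)).1 ⟨s', hm, rfl⟩
    exact s.2 ((Subtype.ext hys : y = s.1) ▸ hy)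
  refine ⟨IsLocalization.mk' W c' ⟨s', hs'⟩, (IsLocalization.AtPrime.mk'_mem_maximal_iff W Ps c' _).2 hc', ?_⟩
  show IsLocalization.lift _ _ = σ (IsLocalization.lift _ _)
  rw [IsLocalization.lift_mk'_spec]
  show (c' : Ks) = σ (s.1 : Ks) * σ (IsLocalization.lift _ _)
  rw [← map_mul]
  refine hcc.trans (congrArg σ ?_)
  exact (IsLocalization.lift_mk'_spec (S := W) (g := algebraMap (integralClosure R Ks) Ks) _ c _ s).1 rfl

end Groth.Agent.DecompHens7
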